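import Groth.Agent.QCohBase.Support
import Groth.Agent.FlasqueAcyclic.Cech
import Mathlib.AlgebraicGeometry.Noetherian

/-!
# Modules with zero-dimensional support are flasque
-/

noncomputable section

universe u

open CategoryTheory AlgebraicGeometry Opposite TopologicalSpace

namespace Groth.Agent.ZeroDimSupport

/-- In a locally Noetherian scheme, any set of closed points inside a closed set of closed points
is closed. -/
theorem isClosed_of_subset {X : Scheme.{u}} [IsLocallyNoetherian X] {T : Set X} (hT : IsClosed T)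
    (h0 : ∀ x ∈ T, IsClosed ({x} : Set X)) {S : Set X} (hS : S ⊆ T) : IsClosed S := by
  rw [← isOpen_compl_iff, isOpen_iff_forall_mem_open]
  intro x hx
  obtain ⟨(A : X.Opens), hA, hxA, -⟩ :=
    Opens.isBasis_iff_nbhd.1 X.isBasis_affineOpens (U := ⊤) (Opens.mem_top x)
  haveI : IsAffine A := hA
  haveI : CompactSpace (A : Scheme.{u}) := inferInstance
  haveI : IsNoetherian (A : Scheme.{u}) := ⟨⟩
  have hfin : (A.ι ⁻¹' T).Finite := by
    obtain ⟨C, hCfin, hCcl, hCirr, hCT⟩ :=
      NoetherianSpace.exists_finite_set_isClosed_irreducible (α := A) (hT.preimage A.ι.continuous)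
    rw [hCT]
    refine hCfin.sUnion fun Z hZ => ?_
    have hZT : Z ⊆ A.ι ⁻¹' T := hCT ▸ Set.subset_sUnion_of_mem hZ
    have hg := (hCirr Z hZ).isGenericPoint_genericPoint (hCcl Z hZ)
    have hsing : IsClosed ({(hCirr Z hZ).genericPoint} : Set A) := by
      have := (h0 _ (hZT hg.mem)).preimage A.ι.continuous
      rwa [show A.ι ⁻¹' {A.ι (hCirr Z hZ).genericPoint} = {(hCirr Z hZ).genericPoint} from
        Set.ext fun r => ⟨fun hr => A.ι.isOpenEmbedding.injective hr, fun hr => congrArg A.ι hr⟩]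
        at this
    refine (Set.finite_singleton (hCirr Z hZ).genericPoint).subset fun q hq => ?_
    have hgq : q ∈ closure ({(hCirr Z hZ).genericPoint} : Set A) := hg.def.symm ▸ hq
    rwa [hsing.closure_eq] at hgq
  refine ⟨(A : Set X) ∩ (A.ι '' (A.ι ⁻¹' S))ᶜ, ?_, ?_, hxA, ?_⟩
  · rintro y ⟨hyA, hy⟩ hyS
    exact hy ⟨⟨y, hyA⟩, hyS, rfl⟩
  · refine A.2.inter (IsClosed.isOpen_compl (self := ?_))
    have hf : (A.ι '' (A.ι ⁻¹' S)).Finite := (hfin.subset (Set.preimage_mono hS)).image _
    rw [← Set.biUnion_of_singleton (A.ι '' (A.ι ⁻¹' S))]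
    refine hf.isClosed_biUnion ?_
    rintro _ ⟨a, ha, rfl⟩
    exact h0 _ (hS ha)
  · rintro ⟨a, ha, rfl⟩
    exact hx ha

/-- A module whose support is closed with all its subsets closed is flasque. -/
theorem isFlasque_of_support {X : Scheme.{u}} (M : X.Modules)
    (h : ∀ S ⊆ CohB1.support M, IsClosed S) :
    TopCat.Sheaf.IsFlasque (X := X.toTopCat) (Coh.toAb M) where
  epi {V' U'} i := by
    obtain ⟨(V : X.Opens)⟩ := V'
    obtain ⟨(U : X.Opens)⟩ := U'
    refine (AddCommGrpCat.epi_iff_surjective _).2 fun s => ?_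
    let P : TopCat.Sheaf AddCommGrpCat.{u} X.toTopCat := Coh.toAb M
    let T : X.Opens := ⟨(V : Set X) ∩ (CohB1.support M ∩ (U : Set X))ᶜ,
      V.2.inter (h _ Set.inter_subset_left).isOpen_compl⟩
    let W : Bool → X.Opens := fun b => if b then U else T
    let sf : ∀ b, P.1.obj (op (W b)) := fun b =>
      Bool.rec (motive := fun b => P.1.obj (op (W b))) 0 s b
    have hz : ∀ (O : X.Opens) (hO : O ≤ U), O ≤ T → P.1.map (homOfLE hO).op s = 0 := by
      intro O hO hO'
      refine TopCat.Presheaf.section_ext P O _ _ fun y hy => ?_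
      have : Subsingleton (M.presheaf.stalk y) :=
        not_not.1 fun hy' => (hO' hy).2 ⟨hy', hO hy⟩
      exact @Subsingleton.elim (M.presheaf.stalk y) this _ _
    obtain ⟨t, ht, -⟩ := TopCat.Sheaf.existsUnique_gluing' P W V
      (fun b => homOfLE (by cases b; exacts [fun y hy => hy.1, i.unop.le]))
      (fun y hy => by
        by_cases hU : y ∈ U
        · exact Opens.mem_iSup.2 ⟨true, hU⟩
        · exact Opens.mem_iSup.2 ⟨false, hy, fun h' => hU h'.2⟩) sf (by
        rintro (_ | _) (_ | _)
        · rfl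
        · exact (map_zero _).trans (hz _ inf_le_right inf_le_left).symm
        · exact (hz _ inf_le_left inf_le_right).trans (map_zero _).symm
        · rfl)
    exact ⟨t, ht true⟩

theorem subsingleton_HH {X : Scheme.{u}} [IsLocallyNoetherian X] (M : X.Modules)
    (hM : Coh.IsCoh M) (h0 : ∀ x ∈ CohB1.support M, IsClosed ({x} : Set X)) (i : ℕ) (hi : 0 < i) :
    Subsingleton (Coh.HH X M i) := by
  obtain ⟨n, rfl⟩ := Nat.exists_eq_add_of_le' hi
  haveI := isFlasque_of_support M fun S hS =>
    isClosed_of_subset (QCohBase.isClosed_support M hM.2) h0 hS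
  exact FlasqueAcyclic.subsingleton_H_of_isFlasque _ n

end Groth.Agent.ZeroDimSupport
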